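import Mathlib
import Groth.Agent.FlatDescent.Global
import Groth.Agent.S9456

/-! Noetherian approximation of affine morphisms of finite presentation. -/

namespace Groth.Agent.NoethApprox

open Groth.FlatDescent AlgebraicGeometry CategoryTheory Limits

universe u

/-- A finitely presented algebra comes from a finitely generated `ℤ`-subalgebra, flatly if flat. -/
theorem exists_model (A B : Type u) [CommRing A] [CommRing B] [Algebra A B]
    [Algebra.FinitePresentation A B] :
    ∃ (A₁ : Subalgebra ℤ A) (_ : A₁.FG) (B₁ : Type u) (_ : CommRing B₁) (_ : Algebra A₁ B₁)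
      (_ : Algebra B₁ B) (_ : IsScalarTower A₁ B₁ B),
      Algebra.FiniteType A₁ B₁ ∧ Algebra.IsPushout A₁ A B₁ B ∧
        (Module.Flat A B → Module.Flat A₁ B₁) := by
  classical
  obtain ⟨n, π, hπ, hker⟩ := ‹Algebra.FinitePresentation A B›.out
  let e1 : (Fin 1 → MvPolynomial (Fin n) A) ≃ₗ[MvPolynomial (Fin n) A] MvPolynomial (Fin n) A :=
    LinearEquiv.funUnique (Fin 1) _ _
  let N : Submodule (MvPolynomial (Fin n) A) (Fin 1 → MvPolynomial (Fin n) A) :=
    Submodule.comap e1.toLinearMap (RingHom.ker π.toRingHom)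
  have hN : N.FG := by
    have : N = Submodule.map e1.symm.toLinearMap (RingHom.ker π.toRingHom) := by
      rw [Submodule.map_equiv_eq_comap_symm, LinearEquiv.symm_symm]
    rw [this]
    exact Submodule.FG.map _ hker
  -- a model of the relations, flat if possible
  obtain ⟨A₁, hA₁, N₁, hN₁, hflat⟩ : ∃ (A₁ : Subalgebra ℤ A) (_ : A₁.FG)
      (N₁ : Submodule (MvPolynomial (Fin n) A₁) (Fin 1 → MvPolynomial (Fin n) A₁)),
      baseN A₁.val.toRingHom N₁ = N ∧
        (Module.Flat A B → Module.Flat A₁ ((Fin 1 → MvPolynomial (Fin n) A₁) ⧸ N₁)) := by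
    by_cases hB : Module.Flat A B
    · haveI : Module.Flat A ((Fin 1 → MvPolynomial (Fin n) A) ⧸ N) := by
        let g : (Fin 1 → MvPolynomial (Fin n) A) →ₗ[A] B :=
          π.toLinearMap ∘ₗ (e1.restrictScalars A).toLinearMap
        have hg : Function.Surjective g := hπ.comp e1.surjective
        let e : ((Fin 1 → MvPolynomial (Fin n) A) ⧸ N.restrictScalars A) ≃ₗ[A] B :=
          (Submodule.quotEquivOfEq _ (LinearMap.ker g) (by ext x; rfl)).trans
            (g.quotKerEquivOfSurjective hg)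
        exact Module.Flat.of_linearEquiv ((Submodule.Quotient.restrictScalarsEquiv A N).symm.trans e)
      obtain ⟨A₁, hA₁, -, N₁, hN₁, hfl⟩ := exists_flat_model hN ⊥ Subalgebra.fg_bot
      refine ⟨A₁, hA₁, N₁, hN₁, fun _ => ?_⟩
      have hm : ∀ y : Fin 1 → MvPolynomial (Fin n) A₁,
          mapF (Subalgebra.inclusion (le_refl A₁)).toRingHom y = y := fun y => funext fun i => by
        rw [mapF_apply, show (Subalgebra.inclusion (le_refl A₁)).toRingHom = RingHom.id _ from
          RingHom.ext fun _ => rfl, MvPolynomial.map_id]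
      have hid : baseN (Subalgebra.inclusion (le_refl A₁)).toRingHom N₁ = N₁ := by
        refine le_antisymm (Submodule.span_le.mpr ?_) fun y hy => ?_
        · rintro _ ⟨y, hy, rfl⟩
          rw [hm]; exact hy
        · have := mapF_mem_baseN (φ := (Subalgebra.inclusion (le_refl A₁)).toRingHom) hy
          rwa [hm] at this
      have := hfl A₁ hA₁ le_rfl
      rwa [hid] at this
    · obtain ⟨A₀, hA₀, N₀, hN₀, -⟩ := exists_finite_type_model hN
      exact ⟨A₀, hA₀, N₀, hN₀, fun h => absurd h hB⟩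
  haveI : Algebra.FiniteType ℤ A₁ := ⟨A₁.fg_top.mpr hA₁⟩
  let e2 : (Fin 1 → MvPolynomial (Fin n) A₁) ≃ₗ[MvPolynomial (Fin n) A₁] MvPolynomial (Fin n) A₁ :=
    LinearEquiv.funUnique (Fin 1) _ _
  let H₁ : Ideal (MvPolynomial (Fin n) A₁) := Submodule.map e2.toLinearMap N₁
  have hHker : ∀ h ∈ H₁, π (MvPolynomial.map (algebraMap A₁ A) h) = 0 := by
    intro h hh
    obtain ⟨y, hy, rfl⟩ := hh
    have := mapF_mem_baseN (φ := A₁.val.toRingHom) hy
    rw [hN₁] at this
    exact this
  letI algB : Algebra (MvPolynomial (Fin n) A₁ ⧸ H₁) B :=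
    (Ideal.Quotient.lift H₁ (π.toRingHom.comp (MvPolynomial.map (algebraMap A₁ A))) hHker).toAlgebra
  haveI : IsScalarTower A₁ (MvPolynomial (Fin n) A₁ ⧸ H₁) B := ⟨fun a b c => by
    obtain ⟨b, rfl⟩ := Ideal.Quotient.mk_surjective b
    show π (MvPolynomial.map (algebraMap A₁ A) (a • b)) * c =
      algebraMap A₁ A a • (π (MvPolynomial.map (algebraMap A₁ A) b) * c)
    rw [Algebra.smul_def a b, MvPolynomial.algebraMap_eq, map_mul, map_mul, MvPolynomial.map_C,
      ← MvPolynomial.algebraMap_eq, π.commutes, Algebra.smul_def, mul_assoc]⟩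
  refine ⟨A₁, hA₁, MvPolynomial (Fin n) A₁ ⧸ H₁, inferInstance, inferInstance, algB, ‹_›,
    inferInstance, ?_, fun hB => ?_⟩
  · refine S9456.isPushout_of_presentation π hπ H₁ (fun _ => rfl) ?_
    intro x hx
    have hx' : (e1.symm x) ∈ baseN A₁.val.toRingHom N₁ := by
      rw [hN₁]
      show π (e1 (e1.symm x)) = 0
      rw [LinearEquiv.apply_symm_apply]
      exact hx
    have key : ∀ v ∈ baseN A₁.val.toRingHom N₁,
        e1 v ∈ H₁.map (MvPolynomial.map (algebraMap A₁ A)) := by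
      intro v hv
      induction hv using Submodule.span_induction with
      | mem v hv => obtain ⟨y, hy, rfl⟩ := hv; exact Ideal.mem_map_of_mem _ ⟨y, hy, rfl⟩
      | zero => rw [map_zero]; exact zero_mem _
      | add a b _ _ ha hb => rw [map_add]; exact add_mem ha hb
      | smul c a _ ha => rw [map_smul]; exact Ideal.mul_mem_left _ c ha
    have := key _ hx'
    rwa [LinearEquiv.apply_symm_apply] at this
  · haveI := hflat hB
    exact Module.Flat.of_linearEquiv
      ((Submodule.Quotient.equiv N₁ H₁ e2 rfl).restrictScalars A₁).symm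

/-- The geometric form. -/
theorem exists_approx {X S : Scheme.{u}} (f : X ⟶ S) [IsAffine X] [IsAffine S]
    [LocallyOfFinitePresentation f] :
    ∃ (X₀ S₀ : Scheme.{u}) (f₀ : X₀ ⟶ S₀) (g : S ⟶ S₀) (g' : X ⟶ X₀), IsAffine X₀ ∧ IsAffine S₀ ∧
      IsPullback g' f f₀ g ∧ Algebra.FiniteType ℤ Γ(S₀, ⊤) ∧ LocallyOfFiniteType f₀ ∧
      (Flat f → Flat f₀) := by
  have hfp : f.appTop.hom.FinitePresentation :=
    (HasRingHomProperty.iff_of_isAffine (P := @LocallyOfFinitePresentation) (f := f)).mp ‹_›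
  algebraize [f.appTop.hom]
  obtain ⟨A₁, hA₁, B₁, _, _, _, _, hft, hpo, hfl⟩ := exists_model Γ(S, ⊤) Γ(X, ⊤)
  haveI := hpo
  let gA : CommRingCat.of A₁ ⟶ Γ(S, ⊤) := CommRingCat.ofHom (algebraMap A₁ Γ(S, ⊤))
  let gB : CommRingCat.of B₁ ⟶ Γ(X, ⊤) := CommRingCat.ofHom (algebraMap B₁ Γ(X, ⊤))
  let fA : CommRingCat.of A₁ ⟶ CommRingCat.of B₁ := CommRingCat.ofHom (algebraMap A₁ B₁)
  have hsq : IsPullback (Spec.map gB) (Spec.map f.appTop) (Spec.map fA) (Spec.map gA) :=
    (isPullback_SpecMap_of_isPushout _ _ _ _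
      (CommRingCat.isPushout_of_isPushout A₁ Γ(S, ⊤) B₁ Γ(X, ⊤))).flip
  refine ⟨Spec (CommRingCat.of B₁), Spec (CommRingCat.of A₁), Spec.map fA,
    S.isoSpec.hom ≫ Spec.map gA, X.isoSpec.hom ≫ Spec.map gB, inferInstance, inferInstance,
    ?_, ?_, ?_, ?_⟩
  · exact hsq.of_iso X.isoSpec.symm (Iso.refl _) S.isoSpec.symm (Iso.refl _) (by simp)
      (by simp [Scheme.isoSpec_inv_naturality]) (by simp) (by simp)
  · haveI : Algebra.FiniteType ℤ A₁ := ⟨A₁.fg_top.mpr hA₁⟩
    exact Algebra.FiniteType.equiv ‹_›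
      (Scheme.ΓSpecIso (CommRingCat.of A₁)).commRingCatIsoToRingEquiv.symm.toIntAlgEquiv
  · rw [HasRingHomProperty.Spec_iff (P := @LocallyOfFiniteType)]
    exact RingHom.finiteType_algebraMap.mpr hft
  · intro hF
    rw [HasRingHomProperty.iff_of_isAffine (P := @Flat)] at hF
    rw [HasRingHomProperty.Spec_iff (P := @Flat)]
    exact RingHom.flat_algebraMap_iff.mpr (hfl hF)

end Groth.Agent.NoethApprox
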